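import Groth.Agent.Lib.Helper18.Rees.Basic

/-!
# The fibres of the Rees algebra of a weight filtration
-/

set_option autoImplicit false

namespace Groth.Agent.Lib.Helper18.Rees

open Polynomial

universe u v v'

attribute [local instance] Polynomial.algebra

variable {K : Type u} {A : Type u} [Field K] [CommRing A] [Algebra K A]
variable {G : Type v} {B : Type v'} (xg : G → A) (ωg : G → ℕ) (mono : B → (G →₀ ℕ))

/-- Evaluation of the polynomial variable at a scalar. -/
noncomputable def evalK (c : K) : A[X] →ₐ[K] A :=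
  (Polynomial.aeval (R := A) (algebraMap K A c)).restrictScalars K

theorem evalK_apply (c : K) (p : A[X]) : evalK c p = p.eval (algebraMap K A c) := by
  unfold evalK
  rw [AlgHom.restrictScalars_apply, Polynomial.coe_aeval_eq_eval]

theorem evalK_rv (c : K) (u : G →₀ ℕ) :
    evalK c (rv xg ωg u) = algebraMap K A (c ^ wt ωg u) * val xg u := by
  rw [evalK_apply]
  unfold rv
  rw [eval_mul, eval_pow, eval_X, eval_C, map_pow]

theorem evalK_smul (c : K) (p : K[X]) (y : A[X]) :
    evalK c (p • y) = algebraMap K A (p.eval c) * evalK c y := by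
  rw [evalK_apply, evalK_apply, Algebra.smul_def]
  change (Polynomial.map (algebraMap K A) p * y).eval _ = _
  rw [eval_mul, eval_map, eval₂_at_apply]

theorem evalK_linComb (c : K) (g : B →₀ K[X]) :
    evalK c (Finsupp.linearCombination K[X] (fun b : B => rv xg ωg (mono b)) g) =
      ∑ b ∈ g.support, ((g b).eval c * c ^ wt ωg (mono b)) • val xg (mono b) := by
  rw [Finsupp.linearCombination_apply, Finsupp.sum, map_sum]
  refine Finset.sum_congr rfl fun b _ => ?_
  rw [evalK_smul, evalK_rv, Algebra.smul_def, map_mul, mul_assoc]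

section Fibre

variable (hstr : ∀ u : G →₀ ℕ, val xg u ∈ Submodule.span K
  ((fun b : B => val xg (mono b)) '' {e | wt ωg (mono e) ≤ wt ωg u}))
variable (hind : LinearIndependent K (fun b : B => val xg (mono b)))
variable (hgen : Submodule.span K (Set.range fun b : B => val xg (mono b)) = ⊤)

/-- The specialisation of the Rees algebra at `t = c`. -/
noncomputable def fibreMap (c : K) : reesAlg xg ωg mono hstr →ₐ[K] A :=
  (evalK c).comp ((Subalgebra.val (reesAlg xg ωg mono hstr)).restrictScalars K)

theorem fibreMap_apply (c : K) (x : reesAlg xg ωg mono hstr) :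
    fibreMap xg ωg mono hstr c x = evalK c (x : A[X]) := rfl

include hgen in
theorem fibreMap_surjective (c : K) (hc : c ≠ 0) :
    Function.Surjective (fibreMap xg ωg mono hstr c) := by
  intro a
  have ha : a ∈ Submodule.span K (Set.range fun b : B => val xg (mono b)) := by
    rw [hgen]; trivial
  have hle : Submodule.span K (Set.range fun b : B => val xg (mono b)) ≤
      LinearMap.range (fibreMap xg ωg mono hstr c).toLinearMap := by
    rw [Submodule.span_le]
    rintro _ ⟨b, rfl⟩
    refine ⟨(c⁻¹ ^ wt ωg (mono b)) • ⟨rv xg ωg (mono b), Submodule.subset_span ⟨b, rfl⟩⟩, ?_⟩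
    change fibreMap xg ωg mono hstr c _ = _
    rw [map_smul, fibreMap_apply, evalK_rv, Algebra.smul_def, ← mul_assoc, ← map_mul,
      ← mul_pow, inv_mul_cancel₀ hc, one_pow, map_one, one_mul]
  exact hle ha

include hind in
theorem ker_fibreMap (c : K) (hc : c ≠ 0) :
    RingHom.ker (fibreMap xg ωg mono hstr c).toRingHom =
      Ideal.span {algebraMap K[X] (reesAlg xg ωg mono hstr) (X - C c)} := by
  classical
  apply le_antisymm
  · intro x hx
    rw [RingHom.mem_ker] at hx
    change fibreMap xg ωg mono hstr c x = 0 at hx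
    rw [fibreMap_apply] at hx
    obtain ⟨g, hg⟩ := Finsupp.mem_span_range_iff_exists_finsupp.1 x.2
    have hg' : Finsupp.linearCombination K[X] (fun b : B => rv xg ωg (mono b)) g = x.1 := by
      rw [Finsupp.linearCombination_apply]; exact hg
    rw [← hg', evalK_linComb] at hx
    have h1 := linearIndependent_iff'.1 hind g.support _ hx
    have h2 : ∀ b, (g b).eval c = 0 := by
      intro b
      by_cases hb : b ∈ g.support
      · have := h1 b hb
        rcases mul_eq_zero.1 this with h | h
        · exact h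
        · exact absurd h (pow_ne_zero _ hc)
      · rw [Finsupp.notMem_support_iff.1 hb, eval_zero]
    -- divide
    set g' : B →₀ K[X] := g.mapRange (fun p => p /ₘ (X - C c)) (zero_divByMonic _) with hg'def
    have h3 : ∀ b, (X - C c) * g' b = g b := by
      intro b
      rw [hg'def, Finsupp.mapRange_apply]
      exact mul_divByMonic_eq_iff_isRoot.2 (h2 b)
    have h4 : g = (X - C c) • g' := by
      ext1 b
      rw [Finsupp.smul_apply, smul_eq_mul, h3]
    rw [Ideal.mem_span_singleton']
    refine ⟨⟨Finsupp.linearCombination K[X] (fun b : B => rv xg ωg (mono b)) g', ?_⟩, ?_⟩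
    · rw [mem_reesAlg]
      unfold reesSub
      rw [← Finsupp.range_linearCombination]
      exact LinearMap.mem_range.2 ⟨g', rfl⟩
    · apply Subtype.ext
      rw [mul_comm, ← Algebra.smul_def]
      change (X - C c) • Finsupp.linearCombination K[X] (fun b : B => rv xg ωg (mono b)) g' = x.1
      rw [← map_smul, ← h4, hg']
  · rw [Ideal.span_le, Set.singleton_subset_iff, SetLike.mem_coe, RingHom.mem_ker]
    change fibreMap xg ωg mono hstr c _ = 0
    rw [fibreMap_apply]
    change evalK c (Polynomial.map (algebraMap K A) (X - C c)) = 0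
    rw [evalK_apply, eval_map, eval₂_at_apply, eval_sub, eval_X, eval_C, sub_self, map_zero]

include hind hgen in
/-- The fibre of the Rees algebra at `c ≠ 0` is the algebra itself. -/
theorem fibre_ne_zero (c : K) (hc : c ≠ 0) :
    Nonempty ((reesAlg xg ωg mono hstr ⧸
      Ideal.span {algebraMap K[X] (reesAlg xg ωg mono hstr) (X - C c)}) ≃ₐ[K] A) := by
  have e1 := Ideal.quotientKerAlgEquivOfSurjective
    (fibreMap_surjective xg ωg mono hstr hgen c hc)
  have e2 := Ideal.quotientEquivAlgOfEq K (ker_fibreMap xg ωg mono hstr hind c hc)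
  exact ⟨e2.symm.trans e1⟩

end Fibre

section Zero

theorem rv_eq_prod (u : G →₀ ℕ) :
    rv xg ωg u = u.prod fun θ k => ((X : A[X]) ^ ωg θ * C (xg θ)) ^ k := by
  classical
  induction u using Finsupp.induction_linear with
  | zero => rw [rv_zero, Finsupp.prod_zero_index]
  | add u v hu hv =>
    rw [rv_add, hu, hv, Finsupp.prod_add_index' (fun _ => pow_zero _) (fun _ _ _ => pow_add _ _ _)]
  | single θ k =>
    rw [rv_single]
    exact (Finsupp.prod_single_index
      (h := fun θ k => ((X : A[X]) ^ ωg θ * C (xg θ)) ^ k) (pow_zero _)).symm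

/-- Lifting an element of a strictly smaller step of the filtration: divisible by `t`. -/
theorem lift_mem_lt (N : ℕ) (a : A)
    (ha : a ∈ Submodule.span K ((fun b : B => val xg (mono b)) '' {e | wt ωg (mono e) < N})) :
    ∃ r' ∈ reesSub xg ωg mono K, (X : A[X]) ^ N * C a = X * r' := by
  induction ha using Submodule.span_induction with
  | mem x hx =>
    obtain ⟨e, he, rfl⟩ := hx
    have he' : wt ωg (mono e) < N := he
    obtain ⟨N', rfl⟩ : ∃ N', N = N' + 1 := ⟨N - 1, by omega⟩
    refine ⟨(X : A[X]) ^ N' * C (val xg (mono e)), ?_, ?_⟩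
    · refine lift_mem xg ωg mono N' _ (Submodule.subset_span ⟨e, ?_, rfl⟩)
      change wt ωg (mono e) ≤ N'
      omega
    · rw [pow_succ]; ring
  | zero => exact ⟨0, Submodule.zero_mem _, by simp⟩
  | add x y _ _ hx hy =>
    obtain ⟨rx, hrx, ex⟩ := hx
    obtain ⟨ry, hry, ey⟩ := hy
    refine ⟨rx + ry, Submodule.add_mem _ hrx hry, ?_⟩
    rw [C_add, mul_add, ex, ey, mul_add]
  | smul k x _ hx =>
    obtain ⟨rx, hrx, ex⟩ := hx
    refine ⟨(C k : K[X]) • rx, Submodule.smul_mem _ _ hrx, ?_⟩
    rw [Algebra.smul_def, Algebra.smul_def]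
    change _ = X * (Polynomial.map (algebraMap K A) (C k) * rx)
    rw [map_C, C_mul, mul_left_comm, ex]
    ring

variable (hstr : ∀ u : G →₀ ℕ, val xg u ∈ Submodule.span K
  ((fun b : B => val xg (mono b)) '' {e | wt ωg (mono e) ≤ wt ωg u}))

/-- The generators of the Rees algebra. -/
noncomputable def genR (θ : G) : reesAlg xg ωg mono hstr :=
  ⟨(X : A[X]) ^ ωg θ * C (xg θ), by
    have := rv_mem xg ωg mono hstr (Finsupp.single θ 1)
    rwa [rv_single, pow_one] at this⟩

/-- The map from the polynomial ring to the Rees algebra. -/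
noncomputable def Xi : MvPolynomial G K →ₐ[K] reesAlg xg ωg mono hstr :=
  MvPolynomial.aeval (genR xg ωg mono hstr)

theorem coe_Xi (f : MvPolynomial G K) :
    ((Xi xg ωg mono hstr f : reesAlg xg ωg mono hstr) : A[X]) =
      MvPolynomial.aeval (fun θ => (X : A[X]) ^ ωg θ * C (xg θ)) f := by
  have : ((Subalgebra.val (reesAlg xg ωg mono hstr)).restrictScalars K).comp (Xi xg ωg mono hstr) =
      MvPolynomial.aeval (fun θ => (X : A[X]) ^ ωg θ * C (xg θ)) := by
    apply MvPolynomial.algHom_ext
    intro θ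
    rw [AlgHom.comp_apply, MvPolynomial.aeval_X]
    unfold Xi
    rw [MvPolynomial.aeval_X]
    rfl
  rw [← this]
  rfl

theorem coe_Xi_monomial (u : G →₀ ℕ) (a : K) :
    ((Xi xg ωg mono hstr (MvPolynomial.monomial u a) : reesAlg xg ωg mono hstr) : A[X]) =
      C (algebraMap K A a) * rv xg ωg u := by
  rw [coe_Xi, MvPolynomial.aeval_monomial, rv_eq_prod]
  rfl

theorem coe_Xi_sum_of_wt (s : Finset (G →₀ ℕ)) (a : (G →₀ ℕ) → K) (N : ℕ)
    (hs : ∀ u ∈ s, wt ωg u = N) :
    ((Xi xg ωg mono hstr (∑ u ∈ s, MvPolynomial.monomial u (a u)) :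
      reesAlg xg ωg mono hstr) : A[X]) =
      X ^ N * C (MvPolynomial.aeval xg (∑ u ∈ s, MvPolynomial.monomial u (a u))) := by
  rw [map_sum, map_sum, AddSubmonoidClass.coe_finsetSum, map_sum, Finset.mul_sum]
  refine Finset.sum_congr rfl fun u hu => ?_
  rw [coe_Xi_monomial, MvPolynomial.aeval_monomial, C_mul]
  unfold rv
  rw [hs u hu]
  have : (u.prod fun θ k => xg θ ^ k) = val xg u := rfl
  rw [this]
  ring

theorem coe_Xi_of_homog (f : MvPolynomial G K) (N : ℕ)
    (hf : MvPolynomial.IsWeightedHomogeneous ωg f N) :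
    ((Xi xg ωg mono hstr f : reesAlg xg ωg mono hstr) : A[X]) =
      X ^ N * C (MvPolynomial.aeval xg f) := by
  have h := coe_Xi_sum_of_wt xg ωg mono hstr f.support (fun u => MvPolynomial.coeff u f) N
    (fun u hu => hf (MvPolynomial.mem_support_iff.1 hu))
  rwa [MvPolynomial.support_sum_monomial_coeff] at h

variable (S₀ : Set (MvPolynomial G K))
variable (hker : ∀ f ∈ S₀, ∃ N, MvPolynomial.IsWeightedHomogeneous ωg f N ∧
  MvPolynomial.aeval xg f ∈ Submodule.span K
    ((fun b : B => val xg (mono b)) '' {e | wt ωg (mono e) < N}))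

theorem coe_algebraMap_X :
    ((algebraMap K[X] (reesAlg xg ωg mono hstr) X : reesAlg xg ωg mono hstr) : A[X]) = X := by
  change Polynomial.map (algebraMap K A) X = X
  rw [map_X]

include hker in
theorem Xi_mem_of_mem_span {f : MvPolynomial G K} (hf : f ∈ Ideal.span S₀) :
    Xi xg ωg mono hstr f ∈
      Ideal.span {algebraMap K[X] (reesAlg xg ωg mono hstr) X} := by
  have hle : Ideal.span S₀ ≤ (Ideal.span {algebraMap K[X] (reesAlg xg ωg mono hstr) X}).comap
      (Xi xg ωg mono hstr).toRingHom := by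
    rw [Ideal.span_le]
    intro f hf
    rw [SetLike.mem_coe, Ideal.mem_comap]
    change Xi xg ωg mono hstr f ∈ _
    obtain ⟨N, hN, hval⟩ := hker f hf
    obtain ⟨r', hr', e⟩ := lift_mem_lt xg ωg mono N _ hval
    rw [Ideal.mem_span_singleton']
    refine ⟨⟨r', hr'⟩, Subtype.ext ?_⟩
    rw [Subalgebra.coe_mul, coe_algebraMap_X, coe_Xi_of_homog xg ωg mono hstr f N hN, e, mul_comm]
  exact hle hf

/-- The induced map on the fibre at zero. -/
noncomputable def XiBar :
    (MvPolynomial G K ⧸ Ideal.span S₀) →ₐ[K]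
      (reesAlg xg ωg mono hstr ⧸ Ideal.span {algebraMap K[X] (reesAlg xg ωg mono hstr) X}) :=
  Ideal.Quotient.liftₐ (Ideal.span S₀)
    ((Ideal.Quotient.mkₐ K _).comp (Xi xg ωg mono hstr)) (by
      intro f hf
      rw [AlgHom.comp_apply, Ideal.Quotient.mkₐ_eq_mk, Ideal.Quotient.eq_zero_iff_mem]
      exact Xi_mem_of_mem_span xg ωg mono hstr S₀ hker hf)

theorem XiBar_mk (f : MvPolynomial G K) :
    XiBar xg ωg mono hstr S₀ hker (Ideal.Quotient.mk _ f) =
      Ideal.Quotient.mk _ (Xi xg ωg mono hstr f) := rfl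

theorem XiBar_surjective : Function.Surjective (XiBar xg ωg mono hstr S₀ hker) := by
  classical
  intro y
  obtain ⟨x, rfl⟩ := Ideal.Quotient.mk_surjective y
  obtain ⟨g, hg⟩ := Finsupp.mem_span_range_iff_exists_finsupp.1 x.2
  refine ⟨Ideal.Quotient.mk _ (∑ b ∈ g.support, MvPolynomial.monomial (mono b) ((g b).coeff 0)), ?_⟩
  rw [XiBar_mk, Ideal.Quotient.eq, Ideal.mem_span_singleton']
  have hmem : Finsupp.linearCombination K[X] (fun b : B => rv xg ωg (mono b))
      (g.mapRange divX divX_zero) ∈ reesAlg xg ωg mono hstr := by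
    rw [mem_reesAlg]
    unfold reesSub
    rw [← Finsupp.range_linearCombination]
    exact LinearMap.mem_range.2 ⟨_, rfl⟩
  refine ⟨-⟨_, hmem⟩, Subtype.ext ?_⟩
  · rw [Subalgebra.coe_mul, coe_algebraMap_X, Subalgebra.coe_sub, map_sum,
      AddSubmonoidClass.coe_finsetSum, ← hg, Subalgebra.coe_neg]
    simp only [coe_Xi_monomial]
    rw [Finsupp.linearCombination_apply, Finsupp.sum_mapRange_index (h := fun (i : B) (a : K[X]) => a • rv xg ωg (mono i))
        (fun i => zero_smul _ _),
      Finsupp.sum, Finsupp.sum, ← Finset.sum_sub_distrib, neg_mul, Finset.sum_mul, ← Finset.sum_neg_distrib]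
    refine Finset.sum_congr rfl fun b _ => ?_
    rw [Algebra.smul_def, Algebra.smul_def]
    change -(Polynomial.map (algebraMap K A) (divX (g b)) * rv xg ωg (mono b) * X) =
      C (algebraMap K A ((g b).coeff 0)) * rv xg ωg (mono b) -
        Polynomial.map (algebraMap K A) (g b) * rv xg ωg (mono b)
    have hdx : Polynomial.map (algebraMap K A) (g b) =
        Polynomial.map (algebraMap K A) (divX (g b)) * X +
          C (algebraMap K A ((g b).coeff 0)) := by
      conv_lhs => rw [← divX_mul_X_add (g b)]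
      rw [Polynomial.map_add, Polynomial.map_mul, map_X, map_C]
    rw [hdx]
    ring

variable (hind : LinearIndependent K (fun b : B => val xg (mono b)))
variable (hspan : ∀ u : G →₀ ℕ, MvPolynomial.monomial u (1 : K) ∈
  ((Ideal.span S₀).restrictScalars K) ⊔
    Submodule.span K (Set.range fun b : B => MvPolynomial.monomial (mono b) (1 : K)))

include hind hspan in
theorem XiBar_injective : Function.Injective (XiBar xg ωg mono hstr S₀ hker) := by
  classical
  rw [injective_iff_map_eq_zero]
  intro q hq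
  obtain ⟨f, rfl⟩ := Ideal.Quotient.mk_surjective q
  -- decompose `f`
  have hf : f ∈ ((Ideal.span S₀).restrictScalars K) ⊔
      Submodule.span K (Set.range fun b : B => MvPolynomial.monomial (mono b) (1 : K)) := by
    rw [← MvPolynomial.support_sum_monomial_coeff f]
    refine Submodule.sum_mem _ fun u _ => ?_
    have : MvPolynomial.monomial u (MvPolynomial.coeff u f) =
        MvPolynomial.coeff u f • MvPolynomial.monomial u (1 : K) := by
      rw [MvPolynomial.smul_monomial, smul_eq_mul, mul_one]
    rw [this]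
    exact Submodule.smul_mem _ _ (hspan u)
  obtain ⟨f₁, hf₁, f₂, hf₂, rfl⟩ := Submodule.mem_sup.1 hf
  have hf₁' : f₁ ∈ Ideal.span S₀ := hf₁
  obtain ⟨a, ha⟩ := Finsupp.mem_span_range_iff_exists_finsupp.1 hf₂
  rw [map_add, map_add, Ideal.Quotient.eq_zero_iff_mem.2 hf₁', map_zero, zero_add, XiBar_mk,
    Ideal.Quotient.eq_zero_iff_mem, Ideal.mem_span_singleton'] at hq
  obtain ⟨r', hr'⟩ := hq
  obtain ⟨g', hg'⟩ := Finsupp.mem_span_range_iff_exists_finsupp.1 r'.2
  have h1 : ((r' * algebraMap K[X] (reesAlg xg ωg mono hstr) X : reesAlg xg ωg mono hstr) : A[X]) =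
      ((Xi xg ωg mono hstr f₂ : reesAlg xg ωg mono hstr) : A[X]) := congrArg Subtype.val hr'
  rw [Subalgebra.coe_mul, coe_algebraMap_X, ← ha, Finsupp.sum, map_sum,
    AddSubmonoidClass.coe_finsetSum, ← hg'] at h1
  -- both sides as linear combinations
  have h2 : Finsupp.linearCombination K[X] (fun b : B => rv xg ωg (mono b)) ((X : K[X]) • g') =
      Finsupp.linearCombination K[X] (fun b : B => rv xg ωg (mono b)) (a.mapRange C C_0) := by
    rw [map_smul, Finsupp.linearCombination_apply, Finsupp.linearCombination_apply,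
      Finsupp.sum_mapRange_index (h := fun (i : B) (p : K[X]) => p • rv xg ωg (mono i))
        (fun i => zero_smul _ _), Algebra.smul_def]
    change Polynomial.map (algebraMap K A) X * _ = _
    rw [map_X, mul_comm, h1, Finsupp.sum]
    refine Finset.sum_congr rfl fun b _ => ?_
    rw [map_smul, Subalgebra.coe_smul, coe_Xi_monomial, Algebra.smul_def, Algebra.smul_def, map_one,
      C_1, one_mul, IsScalarTower.algebraMap_apply K K[X] A[X]]
    rfl
  have h3 := rv_linearIndependent xg ωg mono hind h2
  have h4 : a = 0 := by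
    ext b
    have := congrArg (fun g : B →₀ K[X] => (g b).coeff 0) h3
    simp only [Finsupp.smul_apply, smul_eq_mul, Finsupp.mapRange_apply, coeff_C_zero,
      mul_coeff_zero, coeff_X_zero, zero_mul] at this
    rw [Finsupp.zero_apply, ← this]
  rw [← ha, h4, Finsupp.sum_zero_index, add_zero]
  exact Ideal.Quotient.eq_zero_iff_mem.2 hf₁'

include hind hspan hker in
/-- The fibre of the Rees algebra at zero. -/
theorem fibre_zero :
    Nonempty ((reesAlg xg ωg mono hstr ⧸
      Ideal.span {algebraMap K[X] (reesAlg xg ωg mono hstr) X}) ≃ₐ[K]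
      (MvPolynomial G K ⧸ Ideal.span S₀)) :=
  ⟨(AlgEquiv.ofBijective (XiBar xg ωg mono hstr S₀ hker)
    ⟨XiBar_injective xg ωg mono hstr S₀ hker hind hspan,
      XiBar_surjective xg ωg mono hstr S₀ hker⟩).symm⟩

end Zero

/-- The degeneration attached to a weight on an algebra with a standard monomial basis. -/
theorem exists_degeneration
    (hstr : ∀ u : G →₀ ℕ, val xg u ∈ Submodule.span K
      ((fun b : B => val xg (mono b)) '' {e | wt ωg (mono e) ≤ wt ωg u}))
    (hind : LinearIndependent K (fun b : B => val xg (mono b)))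
    (hgen : Submodule.span K (Set.range fun b : B => val xg (mono b)) = ⊤)
    (S₀ : Set (MvPolynomial G K))
    (hker : ∀ f ∈ S₀, ∃ N, MvPolynomial.IsWeightedHomogeneous ωg f N ∧
      MvPolynomial.aeval xg f ∈ Submodule.span K
        ((fun b : B => val xg (mono b)) '' {e | wt ωg (mono e) < N}))
    (hspan : ∀ u : G →₀ ℕ, MvPolynomial.monomial u (1 : K) ∈
      ((Ideal.span S₀).restrictScalars K) ⊔
        Submodule.span K (Set.range fun b : B => MvPolynomial.monomial (mono b) (1 : K))) :
    ∃ (R : Type u) (_ : CommRing R) (_ : Algebra K R) (_ : Algebra K[X] R)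
      (_ : IsScalarTower K K[X] R),
      Module.Free K[X] R ∧
      Nonempty ((R ⧸ Ideal.span {algebraMap K[X] R X}) ≃ₐ[K]
        (MvPolynomial G K ⧸ Ideal.span S₀)) ∧
      ∀ c : K, c ≠ 0 →
        Nonempty ((R ⧸ Ideal.span {algebraMap K[X] R (X - C c)}) ≃ₐ[K] A) :=
  ⟨reesAlg xg ωg mono hstr, inferInstance, inferInstance, inferInstance, inferInstance,
    free_reesAlg xg ωg mono hstr hind, fibre_zero xg ωg mono hstr S₀ hker hind hspan,
    fun c hc => fibre_ne_zero xg ωg mono hstr hind hgen c hc⟩

end Groth.Agent.Lib.Helper18.Rees
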