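import Mathlib

/-!
# Rees algebras of weight filtrations on algebras with a standard monomial basis

Let `A` be a `K`-algebra generated by `xg : G → A`, with a `K`-basis of "standard monomials"
`val (mono b)`, `b : B`, and a weight `ωg : G → ℕ` such that every monomial is a combination of
standard monomials of at most the same weight.  The Rees algebra `R ⊆ A[t]` spanned over `K[t]` by
`t^{wt u} · (monomial u)` is free over `K[t]`, its fibre at `c ≠ 0` is `A`, and its fibre at `0` is
the quotient of the polynomial ring by any ideal generated by weighted homogeneous elements whose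
values have smaller weight, modulo which the standard monomials span.
-/

set_option autoImplicit false

namespace Groth.Agent.Lib.Helper18.Rees

open Polynomial

universe u v v'

attribute [local instance] Polynomial.algebra

variable {K : Type u} {A : Type u} [Field K] [CommRing A] [Algebra K A]
variable {G : Type v} {B : Type v'} (xg : G → A) (ωg : G → ℕ) (mono : B → (G →₀ ℕ))

/-- The value of a monomial. -/
noncomputable def val (u : G →₀ ℕ) : A := u.prod fun θ k => xg θ ^ k

theorem val_zero : val xg (0 : G →₀ ℕ) = 1 := by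
  unfold val
  rw [Finsupp.prod_zero_index]

theorem val_add (u v : G →₀ ℕ) : val xg (u + v) = val xg u * val xg v := by
  classical
  unfold val
  rw [Finsupp.prod_add_index' (fun _ => pow_zero _) (fun _ _ _ => pow_add _ _ _)]

theorem val_single (θ : G) (k : ℕ) : val xg (Finsupp.single θ k) = xg θ ^ k := by
  unfold val
  exact Finsupp.prod_single_index (h := fun θ k => xg θ ^ k) (pow_zero _)

theorem val_eq_aeval (u : G →₀ ℕ) :
    val xg u = MvPolynomial.aeval xg (MvPolynomial.monomial u (1 : K)) := by
  rw [MvPolynomial.aeval_monomial, map_one, one_mul]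
  rfl

/-- The weight of a monomial. -/
noncomputable def wt (u : G →₀ ℕ) : ℕ := Finsupp.weight ωg u

theorem wt_zero : wt ωg (0 : G →₀ ℕ) = 0 := by
  unfold wt
  rw [map_zero]

theorem wt_add (u v : G →₀ ℕ) : wt ωg (u + v) = wt ωg u + wt ωg v := by
  unfold wt
  rw [map_add]

theorem wt_single (θ : G) (k : ℕ) : wt ωg (Finsupp.single θ k) = k * ωg θ := by
  unfold wt
  rw [Finsupp.weight_single]
  rfl

/-- The Rees vector of a monomial. -/
noncomputable def rv (u : G →₀ ℕ) : A[X] := X ^ wt ωg u * C (val xg u)

theorem rv_zero : rv xg ωg (0 : G →₀ ℕ) = 1 := by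
  unfold rv
  rw [wt_zero, val_zero, pow_zero, C_1, one_mul]

theorem rv_add (u v : G →₀ ℕ) : rv xg ωg (u + v) = rv xg ωg u * rv xg ωg v := by
  unfold rv
  rw [wt_add, val_add, pow_add, C_mul]
  ring

theorem rv_single (θ : G) (k : ℕ) :
    rv xg ωg (Finsupp.single θ k) = (X ^ ωg θ * C (xg θ)) ^ k := by
  unfold rv
  rw [wt_single, val_single, mul_pow, ← pow_mul, C_pow, mul_comm k]

/-- The Rees submodule: the `K[t]`-span of the Rees vectors of the standard monomials. -/
noncomputable def reesSub (K : Type u) [Field K] [Algebra K A] : Submodule K[X] A[X] :=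
  Submodule.span K[X] (Set.range fun b : B => rv xg ωg (mono b))

/-- Lifting an element of a step of the filtration. -/
theorem lift_mem (N : ℕ) (a : A)
    (ha : a ∈ Submodule.span K ((fun b : B => val xg (mono b)) '' {e | wt ωg (mono e) ≤ N})) :
    (X : A[X]) ^ N * C a ∈ reesSub xg ωg mono K := by
  induction ha using Submodule.span_induction with
  | mem x hx =>
    obtain ⟨e, he, rfl⟩ := hx
    have he' : wt ωg (mono e) ≤ N := he
    have h1 : (X : A[X]) ^ N * C (val xg (mono e)) =
        (X ^ (N - wt ωg (mono e)) : K[X]) • rv xg ωg (mono e) := by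
      rw [Algebra.smul_def]
      change _ = Polynomial.map (algebraMap K A) (X ^ (N - wt ωg (mono e))) * _
      rw [Polynomial.map_pow, map_X]
      unfold rv
      rw [← mul_assoc, ← pow_add, Nat.sub_add_cancel he']
    rw [h1]
    exact Submodule.smul_mem _ _ (Submodule.subset_span ⟨e, rfl⟩)
  | zero => simp
  | add x y _ _ hx hy =>
    rw [C_add, mul_add]
    exact Submodule.add_mem _ hx hy
  | smul k x _ hx =>
    have h1 : (X : A[X]) ^ N * C (k • x) = (C k : K[X]) • ((X : A[X]) ^ N * C x) := by
      rw [Algebra.smul_def, Algebra.smul_def]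
      change _ = Polynomial.map (algebraMap K A) (C k) * _
      rw [map_C, C_mul]
      ring
    rw [h1]
    exact Submodule.smul_mem _ _ hx

section Algebra

variable (hstr : ∀ u : G →₀ ℕ, val xg u ∈ Submodule.span K
  ((fun b : B => val xg (mono b)) '' {e | wt ωg (mono e) ≤ wt ωg u}))

include hstr

theorem rv_mem (u : G →₀ ℕ) : rv xg ωg u ∈ reesSub xg ωg mono K :=
  lift_mem xg ωg mono (wt ωg u) (val xg u) (hstr u)

theorem one_mem : (1 : A[X]) ∈ reesSub xg ωg mono K := by
  rw [← rv_zero xg ωg]
  exact rv_mem xg ωg mono hstr 0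

theorem mul_mem {x y : A[X]} (hx : x ∈ reesSub xg ωg mono K) (hy : y ∈ reesSub xg ωg mono K) :
    x * y ∈ reesSub xg ωg mono K := by
  have hle : reesSub xg ωg mono K * reesSub xg ωg mono K ≤ reesSub xg ωg mono K := by
    unfold reesSub
    rw [Submodule.span_mul_span, Submodule.span_le]
    rintro _ ⟨_, ⟨b, rfl⟩, _, ⟨b', rfl⟩, rfl⟩
    change rv xg ωg (mono b) * rv xg ωg (mono b') ∈ reesSub xg ωg mono K
    rw [← rv_add]
    exact rv_mem xg ωg mono hstr _
  exact hle (Submodule.mul_mem_mul hx hy)

/-- The Rees algebra. -/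
noncomputable def reesAlg : Subalgebra K[X] A[X] :=
  (reesSub xg ωg mono K).toSubalgebra (one_mem xg ωg mono hstr)
    (fun _ _ hx hy => mul_mem xg ωg mono hstr hx hy)

theorem mem_reesAlg {x : A[X]} : x ∈ reesAlg xg ωg mono hstr ↔ x ∈ reesSub xg ωg mono K :=
  Iff.rfl

end Algebra

section Free

theorem coeff_linComb (g : B →₀ K[X]) (k : ℕ) :
    (Finsupp.linearCombination K[X] (fun b : B => rv xg ωg (mono b)) g).coeff k =
      ∑ b ∈ g.support, (if wt ωg (mono b) ≤ k then (g b).coeff (k - wt ωg (mono b)) else 0) •
        val xg (mono b) := by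
  rw [Finsupp.linearCombination_apply, Finsupp.sum, finset_sum_coeff]
  refine Finset.sum_congr rfl fun b _ => ?_
  rw [Algebra.smul_def]
  change (Polynomial.map (algebraMap K A) (g b) * (X ^ wt ωg (mono b) * C (val xg (mono b)))).coeff k
    = _
  rw [← mul_assoc, coeff_mul_C, coeff_mul_X_pow', Algebra.smul_def]
  split_ifs with h
  · rw [coeff_map]
  · rw [map_zero]

variable (hind : LinearIndependent K (fun b : B => val xg (mono b)))

include hind

theorem rv_linearIndependent :
    LinearIndependent K[X] (fun b : B => rv xg ωg (mono b)) := by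
  classical
  rw [linearIndependent_iff]
  intro g hg
  ext b j
  rw [Finsupp.zero_apply, coeff_zero]
  by_cases hb : b ∈ g.support
  · have h1 := congrArg (fun p : A[X] => p.coeff (j + wt ωg (mono b))) hg
    simp only [coeff_zero] at h1
    rw [coeff_linComb] at h1
    have h2 := (linearIndependent_iff'.1 hind) g.support _ h1 b hb
    rw [if_pos (Nat.le_add_left _ _), Nat.add_sub_cancel] at h2
    exact h2
  · rw [Finsupp.notMem_support_iff.1 hb, coeff_zero]

end Free

section FreeAlg

variable (hstr : ∀ u : G →₀ ℕ, val xg u ∈ Submodule.span K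
  ((fun b : B => val xg (mono b)) '' {e | wt ωg (mono e) ≤ wt ωg u}))
variable (hind : LinearIndependent K (fun b : B => val xg (mono b)))

/-- The Rees algebra and the Rees submodule have the same underlying module. -/
noncomputable def reesEquiv : reesAlg xg ωg mono hstr ≃ₗ[K[X]] reesSub xg ωg mono K where
  toFun x := ⟨x.1, x.2⟩
  invFun x := ⟨x.1, x.2⟩
  map_add' _ _ := rfl
  map_smul' _ _ := rfl
  left_inv _ := rfl
  right_inv _ := rfl

include hind in
theorem free_reesAlg : Module.Free K[X] (reesAlg xg ωg mono hstr) := by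
  haveI : Module.Free K[X] (reesSub xg ωg mono K) :=
    Module.Free.of_basis (Module.Basis.span (rv_linearIndependent xg ωg mono hind))
  exact Module.Free.of_equiv (reesEquiv xg ωg mono hstr).symm

end FreeAlg

end Groth.Agent.Lib.Helper18.Rees
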